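import Groth.Agent.L11.BlowSmooth.Alg
import Groth.Agent.L07.KoszulVars
import Groth.Agent.L19.PerfectHomCases
import Mathlib.RingTheory.MvPolynomial.Localization

/-!
# The charts of the blow-up in a Koszul-regular sequence

The chart at `f i` is the quotient of a polynomial ring by the Koszul-regular sequence
`f i * T j - f j`, hence a perfect algebra over the base.
-/

set_option autoImplicit false
set_option linter.style.haveILetI false
set_option backward.isDefEq.respectTransparency false
set_option backward.isDefEq.respectTransparency.types false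

universe u

open CategoryTheory CategoryTheory.Limits CohIII MvPolynomial
open Groth.L04.Koszul Groth.L13.BU Groth.L11.BlowSmooth

attribute [local instance] HasDerivedCategory.standard

namespace Groth.L11.BlowPerfect

section Cons

variable {P : Type u} [CommRing P] (a : P) (gs : List P)

/-- If `a :: gs` is Koszul-regular and `gs` is Koszul-regular after inverting `a`, then `gs` is
Koszul-regular and `a` is regular modulo `gs`. -/
theorem regular_of_cons (L : Type u) [CommRing L] [Algebra P L] [IsLocalization.Away a L]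
    (h1 : LCI.IsKoszulRegularSeq P (a :: gs))
    (h2 : LCI.IsKoszulRegularSeq L (gs.map (algebraMap P L))) :
    LCI.IsKoszulRegularSeq P gs ∧ ∀ x : P, a * x ∈ Ideal.ofList gs → x ∈ Ideal.ofList gs := by
  rw [Groth.L07.KoszulPerm.isKoszulRegularSeq_iff] at h1 h2 ⊢
  let M := ModuleCat.of P P
  have hinj : ∀ m : ℤ, m ≤ 0 → ∀ c : (koszulCx M gs).homology m, a • c = 0 → c = 0 := fun m hm c hc =>
    ((isZero_cone_smul_iff (koszulCx M gs) a (m - 1) m (by omega)).1
      (h1 (m - 1) (by omega))).2 c hc
  refine ⟨fun n hn => ?_, fun x hx => ?_⟩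
  · refine ModuleCat.isZero_iff_subsingleton.2 (subsingleton_of_forall_eq 0 fun c => ?_)
    obtain ⟨⟨_, k, rfl⟩, hs⟩ := Groth.L07.KoszulLocal.exists_smul_eq_zero
      (ModuleCat.ofHom (Algebra.linearMap P L)) (Submonoid.powers a)
      (fun y => by
        obtain ⟨⟨x, s⟩, hx⟩ := IsLocalization.surj (Submonoid.powers a) (y : L)
        exact ⟨x, s, hx.symm.trans ((mul_comm _ _).trans (Algebra.smul_def (s : P) (y : L)).symm)⟩)
      (fun x hx => by
        obtain ⟨s, hs⟩ := (IsLocalization.map_eq_zero_iff (Submonoid.powers a) L x).mp hx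
        exact ⟨s, hs⟩)
      gs n (Groth.L07.KoszulAppend.isZero_transfer' (algebraMap P L) (ModuleCat.of P L)
        (ModuleCat.of L L) (AddEquiv.refl L) (fun b m => Algebra.smul_def b m) gs n (h2 n hn)) c
    induction k with
    | zero => simpa using hs
    | succ k ih =>
      refine ih (hinj n hn.le _ ?_)
      rw [← mul_smul, ← pow_succ']
      exact hs
  · have hk := ker_topMap (M := M) gs
    have hmem : ∀ y : P, y ∈ Ideal.ofList gs ↔ topMap M gs y = 0 := fun y => by
      rw [← LinearMap.mem_ker, hk, smul_eq_mul, Ideal.mul_top]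
    rw [hmem] at hx ⊢
    refine hinj 0 le_rfl _ ?_
    rw [← map_smul]
    exact hx

theorem pow_regular_of_regular (h : ∀ x : P, a * x ∈ Ideal.ofList gs → x ∈ Ideal.ofList gs) :
    ∀ (k : ℕ) (x : P), a ^ k * x ∈ Ideal.ofList gs → x ∈ Ideal.ofList gs
  | 0, x, hx => by simpa using hx
  | k + 1, x, hx => pow_regular_of_regular h k x (h _ (by rwa [pow_succ', mul_assoc] at hx))

end Cons

variable {A : Type u} [CommRing A] {n : ℕ} (f : Fin (n + 1) → A) (i : Fin (n + 1))

/-- The relations `f i * T j - f j` of the chart at `f i`. -/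
noncomputable def rel (j : Fin n) : MvPolynomial (Fin n) A := C (f i) * X j - C (f (i.succAbove j))

theorem ofList_ofFn {R : Type u} [CommRing R] {m : ℕ} (g : Fin m → R) :
    Ideal.ofList (List.ofFn g) = Ideal.span (Set.range g) :=
  congrArg Ideal.span (Set.ext fun x => by simp [List.mem_ofFn])

theorem ofList_cons_rel :
    Ideal.ofList ((List.ofFn f).map (C : A →+* MvPolynomial (Fin n) A)) =
      Ideal.ofList (C (f i) :: List.ofFn (rel f i)) := by
  rw [Ideal.ofList_cons, ofList_ofFn, List.map_ofFn, ofList_ofFn]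
  have hi : (C (f i) : MvPolynomial (Fin n) A) ∈
      Ideal.span {C (f i)} ⊔ Ideal.span (Set.range (rel f i)) :=
    Submodule.mem_sup_left (Ideal.mem_span_singleton_self _)
  refine le_antisymm (Ideal.span_le.2 ?_)
    (sup_le ((Ideal.span_singleton_le_iff_mem _).2 (Ideal.subset_span ⟨i, rfl⟩)) (Ideal.span_le.2 ?_))
  · rintro _ ⟨k, rfl⟩
    rcases Fin.eq_self_or_eq_succAbove i k with h | ⟨j, h⟩
    · subst h; exact hi
    · subst h
      have : (C (f (i.succAbove j)) : MvPolynomial (Fin n) A) = C (f i) * X j - rel f i j := by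
        rw [rel]; ring
      show C (f (i.succAbove j)) ∈ _
      rw [this]
      exact sub_mem (Ideal.mul_mem_right _ _ hi) (Submodule.mem_sup_right (Ideal.subset_span ⟨j, rfl⟩))
  · rintro _ ⟨j, rfl⟩
    exact sub_mem (Ideal.mul_mem_right _ _ (Ideal.subset_span ⟨i, rfl⟩)) (Ideal.subset_span ⟨_, rfl⟩)

/-- The value `f j / f i` in the localization. -/
noncomputable def cst (j : Fin n) : Localization.Away (f i) :=
  algebraMap A (Localization.Away (f i)) (f (i.succAbove j)) * IsLocalization.Away.invSelf (f i)

theorem map_rel (j : Fin n) :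
    map (algebraMap A (Localization.Away (f i))) (rel f i j) =
      C (algebraMap A (Localization.Away (f i)) (f i)) * (X j - C (cst f i j)) := by
  simp only [rel, map_sub, map_mul, MvPolynomial.map_C, MvPolynomial.map_X, mul_sub, cst]
  rw [← map_mul C, ← map_mul C, mul_left_comm, IsLocalization.Away.mul_invSelf, mul_one]

theorem ofList_map_rel :
    Ideal.ofList ((List.ofFn (rel f i)).map (map (algebraMap A (Localization.Away (f i))))) =
      Ideal.span (Set.range fun j => (X j - C (cst f i j) :
        MvPolynomial (Fin n) (Localization.Away (f i)))) := by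
  rw [List.map_ofFn, ofList_ofFn]
  have hu : IsUnit (C (σ := Fin n) (algebraMap A (Localization.Away (f i)) (f i))) :=
    (IsLocalization.Away.algebraMap_isUnit (f i)).map _
  refine le_antisymm (Ideal.span_le.2 ?_) (Ideal.span_le.2 ?_) <;> rintro _ ⟨j, rfl⟩
  · show map _ (rel f i j) ∈ _
    rw [map_rel]
    exact Ideal.mul_mem_left _ _ (Ideal.subset_span ⟨j, rfl⟩)
  · refine (Ideal.unit_mul_mem_iff_mem _ hu).1 ?_
    rw [← map_rel]
    exact Ideal.subset_span ⟨j, rfl⟩

theorem translated_regular {R : Type u} [CommRing R] (c : Fin n → R) :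
    LCI.IsKoszulRegularSeq (MvPolynomial (Fin n) R)
      (List.ofFn fun j => (X j - C (c j) : MvPolynomial (Fin n) R)) := by
  let e : MvPolynomial (Fin n) R ≃ₐ[R] MvPolynomial (Fin n) R :=
    AlgEquiv.ofAlgHom (aeval fun j => X j - C (c j)) (aeval fun j => X j + C (c j))
      (algHom_ext fun j => by simp) (algHom_ext fun j => by simp)
  have h := Groth.L07.KoszulFlat.isKoszulRegularSeq_map e.toRingEquiv.toRingHom
    (RingHom.Flat.of_bijective e.bijective) _ (Groth.L07.KoszulVars.isKoszulRegularSeq_X R n)
  rw [List.map_ofFn] at h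
  convert h using 2
  funext j
  simp [e]

theorem rel_regular (hf : LCI.IsKoszulRegularSeq A (List.ofFn f)) :
    LCI.IsKoszulRegularSeq (MvPolynomial (Fin n) A) (List.ofFn (rel f i)) ∧
      ∀ (k : ℕ) (F : MvPolynomial (Fin n) A),
        C (f i) ^ k * F ∈ Ideal.ofList (List.ofFn (rel f i)) → F ∈ Ideal.ofList (List.ofFn (rel f i)) := by
  let R := Localization.Away (f i)
  let P := MvPolynomial (Fin n) A
  let L := MvPolynomial (Fin n) R
  letI : Algebra P L := (map (σ := Fin n) (algebraMap A R)).toAlgebra
  haveI : IsLocalization ((Submonoid.powers (f i)).map (C : A →+* P)) L :=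
    MvPolynomial.isLocalization (Submonoid.powers (f i)) R
  haveI : IsLocalization.Away (C (f i) : P) L := by
    show IsLocalization (Submonoid.powers (C (f i) : P)) L
    have e : Submonoid.powers (C (f i) : P) = (Submonoid.powers (f i)).map (C : A →+* P) :=
      (Submonoid.map_powers (C : A →+* P) (f i)).symm
    rw [e]
    assumption
  have hflat : (C : A →+* P).Flat := RingHom.flat_algebraMap_iff.2 inferInstance
  have h1 : LCI.IsKoszulRegularSeq P (C (f i) :: List.ofFn (rel f i)) :=
    Groth.L07.KoszulPerm.isKoszulRegularSeq_of_ofList_eq (ofList_cons_rel f i) (by simp)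
      (Groth.L07.KoszulFlat.isKoszulRegularSeq_map (C : A →+* P) hflat _ hf)
  have h2 : LCI.IsKoszulRegularSeq L ((List.ofFn (rel f i)).map (algebraMap P L)) := by
    refine Groth.L07.KoszulPerm.isKoszulRegularSeq_of_ofList_eq (fs := List.ofFn fun j =>
      (X j - C (cst f i j) : L)) ?_ (by simp) (translated_regular _)
    rw [ofList_ofFn]
    exact (ofList_map_rel f i).symm
  obtain ⟨h3, h4⟩ := regular_of_cons _ _ L h1 h2
  exact ⟨h3, pow_regular_of_regular _ _ h4⟩

/-- The presentation of the chart. -/
noncomputable def chartEv : MvPolynomial (Fin n) A →+* SC f i :=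
  eval₂Hom (sh f i) fun j => sfr f i (i.succAbove j)

theorem chartEv_surjective : Function.Surjective (chartEv f i) := by
  intro z
  obtain ⟨m, w, hw, rfl⟩ := frac_surjective (sI f) (f i) (mem_pow_one f i) z
  obtain ⟨Q, hQ⟩ := frac_mem_range_ev f i m w hw
  refine ⟨aeval (i.insertNth (α := fun _ => MvPolynomial (Fin n) A) 1 X) Q, ?_⟩
  rw [← hQ]
  clear hQ
  induction Q using MvPolynomial.induction_on with
  | C r => simp [chartEv, ev]
  | add p q hp hq => simp only [map_add, hp, hq]
  | mul_X p k hp =>
    simp only [map_mul, hp]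
    congr 1
    rw [aeval_X]
    rcases Fin.eq_self_or_eq_succAbove i k with h | ⟨j, h⟩
    · subst h; rw [Fin.insertNth_apply_same, map_one, ev_X_self]
    · subst h; rw [Fin.insertNth_apply_succAbove, chartEv, ev, eval₂Hom_X', eval₂Hom_X']

theorem chartEv_rel (j : Fin n) : chartEv f i (rel f i j) = 0 := by
  simp only [chartEv, rel, map_sub, map_mul, eval₂Hom_C, eval₂Hom_X']
  rw [sub_eq_zero]
  exact (chartHom_eq (sI f) (f i) (mem_pow_one f i) (f (i.succAbove j)) (mem_pow_one f _)).symm

theorem chartEv_ker (hf : LCI.IsKoszulRegularSeq A (List.ofFn f)) :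
    RingHom.ker (chartEv f i) = Ideal.ofList (List.ofFn (rel f i)) := by
  refine le_antisymm (fun F hF => ?_) ?_
  · let R := Localization.Away (f i)
    have hu : IsUnit (algebraMap A R (f i)) := IsLocalization.Away.algebraMap_isUnit (f i)
    obtain ⟨ψ, hψ⟩ := exists_chart_lift (sI f) (f i) (mem_pow_one f i) (algebraMap A R)
      hu.mem_nonZeroDivisors fun x _ => hu.dvd
    have hψc : ∀ j : Fin n, ψ (sfr f i (i.succAbove j)) = cst f i j := fun j => by
      refine hu.mul_left_cancel ?_
      have e := congrArg ψ (chartHom_eq (sI f) (f i) (mem_pow_one f i) (f (i.succAbove j)) (mem_pow_one f _))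
      rw [map_mul, ← RingHom.comp_apply, ← RingHom.comp_apply, hψ] at e
      rw [cst, mul_left_comm, IsLocalization.Away.mul_invSelf, mul_one, ← e]
    have h0 : eval₂Hom (algebraMap A R) (cst f i) F = 0 := by
      have : eval₂Hom (algebraMap A R) (cst f i) = ψ.comp (chartEv f i) :=
        MvPolynomial.ringHom_ext (fun r => by simp [chartEv, ← hψ]) fun j => by simp [chartEv, hψc]
      rw [this, RingHom.comp_apply, RingHom.mem_ker.1 hF, map_zero]
    have hmem : map (algebraMap A R) F ∈
        Ideal.span (Set.range fun j => (X j - C (cst f i j) : MvPolynomial (Fin n) R)) := by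
      suffices hG : ∀ G : MvPolynomial (Fin n) R, G - C (eval (cst f i) G) ∈
          Ideal.span (Set.range fun j => (X j - C (cst f i j) : MvPolynomial (Fin n) R)) by
        have := hG (map (algebraMap A R) F)
        rwa [eval_map, ← coe_eval₂Hom, h0, map_zero, sub_zero] at this
      intro G
      induction G using MvPolynomial.induction_on with
      | C r => rw [eval_C, sub_self]; exact zero_mem _
      | add p q hp hq =>
        rw [map_add, map_add, add_sub_add_comm]
        exact add_mem hp hq
      | mul_X p j hp =>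
        rw [map_mul, map_mul, eval_X,
          show p * X j - C (eval (cst f i) p) * C (cst f i j) =
            (p - C (eval (cst f i) p)) * X j + C (eval (cst f i) p) * (X j - C (cst f i j)) by ring]
        exact add_mem (Ideal.mul_mem_right _ _ hp) (Ideal.mul_mem_left _ _ (Ideal.subset_span ⟨j, rfl⟩))
    letI : Algebra (MvPolynomial (Fin n) A) (MvPolynomial (Fin n) R) :=
      (map (σ := Fin n) (algebraMap A R)).toAlgebra
    haveI : IsLocalization ((Submonoid.powers (f i)).map (C : A →+* MvPolynomial (Fin n) A))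
        (MvPolynomial (Fin n) R) :=
      MvPolynomial.isLocalization (Submonoid.powers (f i)) R
    rw [← ofList_map_rel, ← Ideal.map_ofList] at hmem
    obtain ⟨s, ⟨_, ⟨k, rfl⟩, rfl⟩, hs⟩ :=
      (IsLocalization.algebraMap_mem_map_algebraMap_iff
        ((Submonoid.powers (f i)).map (C : A →+* MvPolynomial (Fin n) A)) (MvPolynomial (Fin n) R) _ F).1 hmem
    exact (rel_regular f i hf).2 k F (by rwa [map_pow] at hs)
  · rw [ofList_ofFn, Ideal.span_le]
    rintro _ ⟨j, rfl⟩
    exact chartEv_rel f i j

/-- Quotients of polynomial rings by Koszul-regular sequences are perfect. -/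
theorem perfect_of_ker {B : Type u} [CommRing B] [Algebra A B] {m : ℕ}
    (φ : MvPolynomial (Fin m) A →ₐ[A] B) (hφ : Function.Surjective φ)
    (l : List (MvPolynomial (Fin m) A)) (hl : LCI.IsKoszulRegularSeq _ l)
    (hker : RingHom.ker φ.toRingHom = Ideal.ofList l) : MoreMor.IsPerfectHom A B := by
  refine Groth.L19.PerfectHom.isPerfectHom_iff.2 ⟨m, φ, hφ, ?_⟩
  letI := φ.toRingHom.toAlgebra
  let e : (MvPolynomial (Fin m) A ⧸ Ideal.ofList l) ≃ₐ[MvPolynomial (Fin m) A] B :=
    (Ideal.quotientEquivAlgOfEq _ hker.symm).trans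
      (Ideal.quotientKerAlgEquivOfSurjective (f := Algebra.ofId (MvPolynomial (Fin m) A) B) hφ)
  exact Groth.L29.Perfect.of_iso (Groth.L19.PerfectHom.inDIso e.toLinearEquiv)
    (Groth.L19.PerfectHom.perfect_quotient_of_koszulRegular l hl)

/-- The chart is perfect over the base. -/
theorem perfect_chart (hf : LCI.IsKoszulRegularSeq A (List.ofFn f)) :
    letI := (sh f i).toAlgebra
    MoreMor.IsPerfectHom A (SC f i) := by
  letI := (sh f i).toAlgebra
  let φ : MvPolynomial (Fin n) A →ₐ[A] SC f i :=
    { chartEv f i with commutes' := fun r => by simp [chartEv, RingHom.algebraMap_toAlgebra] }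
  exact perfect_of_ker φ (chartEv_surjective f i) _ (rel_regular f i hf).1 (chartEv_ker f i hf)

/-- Perfectness transports along isomorphisms of algebras. -/
theorem perfect_of_algEquiv {A B B' : Type u} [CommRing A] [CommRing B] [CommRing B'] [Algebra A B]
    [Algebra A B'] (e : B ≃ₐ[A] B') (h : MoreMor.IsPerfectHom A B) : MoreMor.IsPerfectHom A B' := by
  obtain ⟨m, φ, hφ, hp⟩ := Groth.L19.PerfectHom.isPerfectHom_iff.1 h
  refine Groth.L19.PerfectHom.isPerfectHom_iff.2
    ⟨m, e.toAlgHom.comp φ, e.surjective.comp hφ, ?_⟩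
  letI := φ.toRingHom.toAlgebra
  letI : Algebra (MvPolynomial (Fin m) A) B' := (e.toAlgHom.comp φ).toRingHom.toAlgebra
  exact Groth.L29.Perfect.of_iso (Groth.L19.PerfectHom.inDIso
    ({ e.toRingEquiv.toAddEquiv with
      map_smul' := fun r x => map_mul e (φ r) x } : B ≃ₗ[MvPolynomial (Fin m) A] B')) hp

end Groth.L11.BlowPerfect
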