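import Groth.Agent.L11.BlowPerfect.Alg
import Groth.Agent.L11.BlowSmooth.Sch
import Groth.Agent.L22.BlowUp
import Groth.Agent.L29.RelPC.PerfectMor
import Groth.Prelude.Def_Mor2

/-!
# Blow-ups in regular centres are perfect morphisms
-/

set_option autoImplicit false
set_option linter.style.haveILetI false
set_option backward.isDefEq.respectTransparency false
set_option backward.isDefEq.respectTransparency.types false

universe u

open CategoryTheory CategoryTheory.Limits AlgebraicGeometry TopologicalSpace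
open Groth.L11.BlowSmooth

namespace Groth.L11.BlowPerfect

variable {X X' : Scheme.{u}} (b : X' ⟶ X)

/-- Perfectness on an affine chart given by an open immersion of a spectrum. -/
theorem exists_homPerf_of_chart {V : X.Opens} (hV : IsAffineOpen V) {C : Type u} [CommRing C]
    (φ : Γ(X, V) →+* C) (j : Spec (CommRingCat.of C) ⟶ X') [IsOpenImmersion j]
    (hj : j ≫ b = Spec.map (CommRingCat.ofHom φ) ≫ hV.fromSpec)
    (hφ : letI := φ.toAlgebra; MoreMor.IsPerfectHom Γ(X, V) C) :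
    ∃ h : j ''ᵁ ⊤ ≤ b ⁻¹ᵁ V, Groth.L29.RelPC.HomPerf b (j ''ᵁ ⊤) V h := by
  have h : j ''ᵁ ⊤ ≤ b ⁻¹ᵁ V := by
    rintro _ ⟨y, -, rfl⟩
    show b (j y) ∈ V
    rw [← Scheme.Hom.comp_apply, hj, Scheme.Hom.comp_apply]
    exact hV.range_fromSpec.le ⟨_, rfl⟩
  refine ⟨h, ?_⟩
  have hgV : ⊤ ≤ (Spec.map (CommRingCat.ofHom φ) ≫ hV.fromSpec) ⁻¹ᵁ V :=
    fun y _ => hV.range_fromSpec.le ⟨_, rfl⟩
  have h3 : (Spec.map (CommRingCat.ofHom φ) ≫ hV.fromSpec).appLE V ⊤ hgV =
      CommRingCat.ofHom φ ≫ (Scheme.ΓSpecIso (CommRingCat.of C)).inv := by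
    rw [← Scheme.Hom.appLE_comp_appLE _ hV.fromSpec V ⊤ ⊤ hV.fromSpec_preimage_self.ge le_top]
    have h4 : hV.fromSpec.appLE V ⊤ hV.fromSpec_preimage_self.ge = (Scheme.ΓSpecIso Γ(X, V)).inv := by
      rw [Scheme.Hom.appLE, hV.fromSpec_app_self, Category.assoc, ← Functor.map_comp]
      exact (congrArg ((Scheme.ΓSpecIso Γ(X, V)).inv ≫ ·) ((Spec Γ(X, V)).presheaf.map_id _)).trans
        (Category.comp_id _)
    rw [h4, Scheme.ΓSpecIso_inv_naturality]
    congr 1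
  have key : b.appLE V (j ''ᵁ ⊤) h ≫ (j.appIso ⊤).hom ≫ (Scheme.ΓSpecIso (CommRingCat.of C)).hom =
      CommRingCat.ofHom φ := by
    rw [Scheme.Hom.appIso_hom', ← Category.assoc, Scheme.Hom.appLE_comp_appLE]
    simp only [hj]
    rw [h3, Category.assoc, Iso.inv_hom_id, Category.comp_id]
  letI := φ.toAlgebra
  letI := (b.appLE V (j ''ᵁ ⊤) h).hom.toAlgebra
  let e : Γ(X', j ''ᵁ ⊤) ≃+* C :=
    (j.appIso ⊤ ≪≫ Scheme.ΓSpecIso (CommRingCat.of C)).commRingCatIsoToRingEquiv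
  let eA : Γ(X', j ''ᵁ ⊤) ≃ₐ[Γ(X, V)] C :=
    { e with commutes' := fun r => congrArg (fun g : Γ(X, V) ⟶ CommRingCat.of C => g.hom r) key }
  exact perfect_of_algEquiv eA.symm hφ

/-- Perfectness near a point where the morphism is an isomorphism over a neighbourhood. -/
theorem exists_homPerf_of_isIso (W : X.Opens) [IsIso (b ∣_ W)] (x : X') (hx : b x ∈ W) :
    ∃ (U : X'.Opens) (V : X.Opens) (h : U ≤ b ⁻¹ᵁ V), IsAffineOpen U ∧ IsAffineOpen V ∧ x ∈ U ∧
      Groth.L29.RelPC.HomPerf b U V h := by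
  obtain ⟨_, ⟨V, hV, rfl⟩, hxV, hVW⟩ := X.isBasis_affineOpens.exists_subset_of_mem_open hx W.2
  have h1 : IsIso (b ∣_ W.ι ''ᵁ (W.ι ⁻¹ᵁ V)) :=
    ((MorphismProperty.isomorphisms Scheme.{u}).arrow_mk_iso_iff
      (morphismRestrictRestrict b W (W.ι ⁻¹ᵁ V))).1
      (IsZariskiLocalAtTarget.restrict (P := MorphismProperty.isomorphisms Scheme.{u}) ‹_› _)
  have e : W.ι ''ᵁ (W.ι ⁻¹ᵁ V) = V := by
    rw [Scheme.Hom.image_preimage_eq_opensRange_inf, Scheme.Opens.opensRange_ι]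
    exact inf_eq_right.2 hVW
  rw [e] at h1
  haveI : IsAffine (V : Scheme.{u}) := hV
  have haff : IsAffineOpen (b ⁻¹ᵁ V) := IsAffine.of_isIso (b ∣_ V)
  refine ⟨_, V, le_rfl, haff, hV, hxV, ?_⟩
  have h2 : IsIso (b.app V) := by
    have h3 : IsIso ((b ∣_ V).app ⊤) := inferInstance
    rw [morphismRestrict_app] at h3
    have h4 : IsIso (b.app ((Scheme.Opens.ι V) ''ᵁ ⊤)) :=
      @IsIso.of_isIso_comp_right _ _ _ _ _ _ _ inferInstance h3
    rwa [Scheme.Opens.ι_image_top] at h4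
  letI := (b.appLE V (b ⁻¹ᵁ V) le_rfl).hom.toAlgebra
  have hb : Function.Bijective (algebraMap Γ(X, V) Γ(X', b ⁻¹ᵁ V)) := by
    show Function.Bijective (b.appLE V (b ⁻¹ᵁ V) le_rfl).hom
    rw [Scheme.Hom.appLE_eq_app]
    exact (ConcreteCategory.isIso_iff_bijective (b.app V)).1 h2
  haveI : Algebra.FinitePresentation Γ(X, V) Γ(X', b ⁻¹ᵁ V) :=
    Algebra.FinitePresentation.equiv (AlgEquiv.ofBijective (Algebra.ofId _ _) hb)
  haveI : Module.Flat Γ(X, V) Γ(X', b ⁻¹ᵁ V) := RingHom.Flat.of_bijective hb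
  exact Groth.L19.PerfectHom.isPerfectHom_of_flat

theorem isPerfectMor_blowUp {Y : Scheme.{u}} (i : Y ⟶ X) (hi : Mor2.IsRegularClosedImmersion i)
    (hb : BlowUp.IsBlowUp b i.ker) : MoreMor.IsPerfectMor b := by
  haveI : IsClosedImmersion i := hi.1
  refine Groth.L29.RelPC.perfect_of_local fun x => ?_
  by_cases hx : b x ∈ i.ker.support
  · obtain ⟨z, hz⟩ : b x ∈ Set.range i := by
      rw [← SetLike.mem_coe, Scheme.Hom.support_ker, i.isClosedEmbedding.isClosed_range.closure_eq] at hx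
      exact hx
    obtain ⟨U, hU, hzU, rs, hrs, hker⟩ := hi.2 z
    rw [hz] at hzU
    have hkr : LCI.IsKoszulRegularSeq Γ(X, U) (List.ofFn rs.get) := by
      rw [List.ofFn_get, Groth.L07.KoszulPerm.isKoszulRegularSeq_iff]
      exact fun n hn => Groth.L04.Koszul.isZero_of_isWeaklyRegular _ (ModuleCat.of _ _)
        hrs.toIsWeaklyRegular n hn.ne
    have hf : i.ker.ideal ⟨U, hU⟩ = sI rs.get := by
      rw [hker]
      conv_lhs => rw [← List.ofFn_get rs]
      exact ofList_ofFn _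
    obtain ⟨k, j, hjo, hxj, hjb⟩ := exists_blowUp_chart b i.ker hb ⟨U, hU⟩ rs.get hf x hzU
    obtain ⟨n, hn⟩ : ∃ n, rs.length = n + 1 := Nat.exists_eq_succ_of_ne_zero k.pos.ne'
    haveI := hjo
    have hperf : letI := (sh rs.get k).toAlgebra
        MoreMor.IsPerfectHom Γ(X, U) (SC rs.get k) := by
      revert k
      generalize rs.get = f at hkr ⊢
      revert f
      rw [hn]
      intro f hf k _ _ _ _ _
      exact perfect_chart f k hf
    obtain ⟨h, hh⟩ := exists_homPerf_of_chart b hU _ j hjb hperf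
    obtain ⟨y, rfl⟩ := hxj
    exact ⟨_, _, h, (isAffineOpen_top _).image_of_isOpenImmersion j, hU, ⟨y, trivial, rfl⟩, hh⟩
  · haveI := Groth.L22.Ideals.isIso_restrict_compl hb
    exact exists_homPerf_of_isIso b i.ker.support.compl x hx

end Groth.L11.BlowPerfect
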